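import Mathlib.Algebra.BigOperators.Group.List.Basic
import Mathlib.Data.List.Nodup
import Mathlib.Data.List.GetD
import Mathlib.Tactic.Linarith
import Mathlib.Tactic.Positivity
import Mathlib.Tactic.Ring
import Groth.Prelude.Def_W4c3severiratdpLat

/-!
# Bounded enumeration of conic and exceptional classes in the lattices `DP δ`, `δ ≤ 8`
-/

namespace Groth.Agent.W4c3DP

/-- The largest `r ≤ k` with `r * r ≤ Q`. -/
def isq : ℕ → ℤ → ℕ
  | 0, _ => 0
  | k + 1, Q => if ((k : ℤ) + 1) * ((k : ℤ) + 1) ≤ Q then k + 1 else isq k Q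

/-- All integer lists of length `n` with given sum and sum of squares (`Q ≤ 168`). -/
def search : ℕ → ℤ → ℤ → List (List ℤ)
  | 0, S, Q => if S = 0 ∧ Q = 0 then [[]] else []
  | n + 1, S, Q =>
    if S * S ≤ ((n : ℤ) + 1) * Q then
      (List.range (2 * isq 12 Q + 1)).flatMap fun i : ℕ =>
        (search n (S - ((i : ℤ) - (isq 12 Q : ℤ)))
          (Q - ((i : ℤ) - (isq 12 Q : ℤ)) * ((i : ℤ) - (isq 12 Q : ℤ)))).map
          (List.cons ((i : ℤ) - (isq 12 Q : ℤ)))
    else []

theorem abs_le_isq : ∀ (k : ℕ) (b Q : ℤ), b * b ≤ Q → |b| ≤ (k : ℤ) → |b| ≤ (isq k Q : ℤ)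
  | 0, b, Q, _, h => by simpa [isq] using h
  | k + 1, b, Q, h1, h2 => by
    rw [isq]
    split_ifs with h
    · exact h2
    · refine abs_le_isq k b Q h1 ?_
      by_contra h3
      push_cast at h2
      have h4 : |b| = (k : ℤ) + 1 := by omega
      have h5 : |b| * |b| = b * b := abs_mul_abs_self b
      rw [h4] at h5
      exact h (h5 ▸ h1)

theorem sq_sum_le (l : List ℤ) :
    l.sum * l.sum ≤ (l.length : ℤ) * (l.map fun x => x * x).sum ∧ 0 ≤ (l.map fun x => x * x).sum := by
  induction l with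
  | nil => simp
  | cons x l ih =>
    obtain ⟨h1, h2⟩ := ih
    simp only [List.sum_cons, List.length_cons, List.map_cons]
    refine ⟨?_, add_nonneg (mul_self_nonneg x) h2⟩
    push_cast
    rcases Nat.eq_zero_or_pos l.length with h0 | h0
    · have : l = [] := List.eq_nil_of_length_eq_zero h0
      subst this; simp
    · have hn : (0 : ℤ) < (l.length : ℤ) := by exact_mod_cast h0
      have key : 2 * x * l.sum ≤ (l.length : ℤ) * (x * x) + (l.map fun y => y * y).sum := by
        refine le_of_mul_le_mul_left ?_ hn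
        nlinarith [mul_self_nonneg ((l.length : ℤ) * x - l.sum)]
      nlinarith

theorem mem_search : ∀ (l : List ℤ) (n : ℕ) (S Q : ℤ), Q ≤ 168 →
    (l ∈ search n S Q ↔ l.length = n ∧ l.sum = S ∧ (l.map fun x => x * x).sum = Q)
  | [], 0, S, Q, _ => by
    by_cases h : S = 0 ∧ Q = 0
    · simp [search, h.1, h.2]
    · simp only [search, if_neg h, List.not_mem_nil, false_iff]
      rintro ⟨-, h1, h2⟩
      exact h ⟨h1.symm, h2.symm⟩
  | x :: l, 0, S, Q, _ => by
    rw [search]; split_ifs <;> simp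
  | [], n + 1, S, Q, _ => by
    rw [search]; split_ifs <;> simp
  | x :: l, n + 1, S, Q, hQ => by
    have hsq := sq_sum_le (x :: l)
    constructor
    · intro h
      rw [search] at h
      split_ifs at h with hc
      · simp only [List.mem_flatMap, List.mem_range, List.mem_map, List.cons.injEq] at h
        obtain ⟨i, -, t, ht, rfl, rfl⟩ := h
        obtain ⟨h1, h2, h3⟩ := (mem_search t n _ _
          (by nlinarith [mul_self_nonneg ((i : ℤ) - (isq 12 Q : ℤ))])).mp ht
        simp only [List.length_cons, List.sum_cons, List.map_cons, h1, h2, h3]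
        exact ⟨trivial, by ring, by ring⟩
      · simp at h
    · rintro ⟨h1, h2, h3⟩
      simp only [List.length_cons, List.sum_cons, List.map_cons] at h1 h2 h3 hsq
      have hl := (sq_sum_le l).2
      have hb : x * x ≤ Q := by linarith
      have hx : |x| ≤ (12 : ℕ) := by
        push_cast
        nlinarith [abs_mul_abs_self x, abs_nonneg x]
      have hr := abs_le.mp (abs_le_isq 12 x Q hb hx)
      rw [search, if_pos]
      · simp only [List.mem_flatMap, List.mem_range, List.mem_map, List.cons.injEq]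
        have hi : (((x + (isq 12 Q : ℤ)).toNat : ℕ) : ℤ) - (isq 12 Q : ℤ) = x := by omega
        refine ⟨(x + (isq 12 Q : ℤ)).toNat, by omega, l, ?_, hi, rfl⟩
        rw [hi, mem_search l n _ _ (by nlinarith [mul_self_nonneg x])]
        exact ⟨by omega, by linarith, by linarith⟩
      · rw [← h2, ← h3]
        have : (l.length : ℤ) = n := by exact_mod_cast (show l.length = n by omega)
        calc _ ≤ _ := hsq.1
          _ = _ := by push_cast; rw [this]

theorem nodup_search : ∀ (n : ℕ) (S Q : ℤ), (search n S Q).Nodup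
  | 0, S, Q => by rw [search]; split_ifs <;> simp
  | n + 1, S, Q => by
    rw [search]
    split_ifs
    · rw [List.nodup_flatMap]
      refine ⟨fun i _ => (nodup_search n _ _).map List.cons_injective, ?_⟩
      refine List.Pairwise.imp ?_ List.nodup_range
      intro i j hij a hi hj
      simp only [List.mem_map] at hi hj
      obtain ⟨t, -, rfl⟩ := hi
      obtain ⟨s, -, hs⟩ := hj
      injection hs with h1 _
      omega
    · simp

open W4c3severiratdp

/-- The coordinate lists of the classes `v` with `v·v = sq`, `K·v = -k`, first coordinate in `[-1, 12]`. -/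
def enum (δ : ℕ) (sq k : ℤ) : List (List ℤ) :=
  (List.range 14).flatMap fun i : ℕ =>
    (search δ (3 * ((i : ℤ) - 1) - k) (((i : ℤ) - 1) * ((i : ℤ) - 1) - sq)).map
      (List.cons ((i : ℤ) - 1))

/-- The vector with a given coordinate list. -/
def toDP (δ : ℕ) (l : List ℤ) : DP δ := fun i => l.getD (i : ℕ) 0

theorem form_self {δ : ℕ} (v : DP δ) :
    form v v = v 0 * v 0 - ((List.ofFn fun i : Fin δ => v i.succ).map fun x => x * x).sum := by
  rw [form, List.map_ofFn, List.sum_ofFn]; rfl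

theorem form_canon {δ : ℕ} (v : DP δ) :
    form (canon δ) v = -3 * v 0 + (List.ofFn fun i : Fin δ => v i.succ).sum := by
  simp only [form, canon, Fin.cases_zero, Fin.cases_succ, List.sum_ofFn, neg_one_mul,
    Finset.sum_neg_distrib, sub_neg_eq_add]

theorem mem_enum_ofFn {δ : ℕ} (hδ : δ ≤ 8) {sq k : ℤ} (hp : (sq = 0 ∧ k = 2) ∨ (sq = -1 ∧ k = 1))
    (v : DP δ) (h1 : form v v = sq) (h2 : form (canon δ) v = -k) :
    List.ofFn v ∈ enum δ sq k := by
  rw [form_self] at h1
  rw [form_canon] at h2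
  obtain ⟨t, ht⟩ : ∃ t, t = List.ofFn fun i : Fin δ => v i.succ := ⟨_, rfl⟩
  rw [← ht] at h1 h2
  obtain ⟨hcs, hnn⟩ := sq_sum_le t
  have hlen : t.length = δ := by rw [ht, List.length_ofFn]
  have h8 : t.sum * t.sum ≤ 8 * (t.map fun x => x * x).sum := hcs.trans
    (mul_le_mul_of_nonneg_right (by rw [hlen]; exact_mod_cast hδ) hnn)
  have hS : t.sum = 3 * v 0 - k := by linarith
  have hQ : (t.map fun x => x * x).sum = v 0 * v 0 - sq := by linarith
  rw [hS, hQ] at h8
  have hrange : -1 ≤ v 0 ∧ v 0 ≤ 12 := by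
    rcases hp with ⟨rfl, rfl⟩ | ⟨rfl, rfl⟩ <;> constructor <;> nlinarith
  rw [List.ofFn_succ, ← ht, enum]
  simp only [List.mem_flatMap, List.mem_range, List.mem_map, List.cons.injEq]
  have hi : (((v 0 + 1).toNat : ℕ) : ℤ) - 1 = v 0 := by omega
  refine ⟨(v 0 + 1).toNat, by omega, t, ?_, hi, rfl⟩
  rw [hi, mem_search t δ _ _ (by rcases hp with ⟨rfl, rfl⟩ | ⟨rfl, rfl⟩ <;> nlinarith)]
  exact ⟨hlen, hS, hQ⟩

theorem toDP_ofFn {δ : ℕ} (v : DP δ) : toDP δ (List.ofFn v) = v := by
  funext i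
  have hi : (i : ℕ) < (List.ofFn v).length := by rw [List.length_ofFn]; exact i.2
  rw [toDP, List.getD_eq_getElem _ _ hi, List.getElem_ofFn]

theorem mem_enum_spec {δ : ℕ} {sq k : ℤ} (hsq : -1 ≤ sq) {l : List ℤ} (hl : l ∈ enum δ sq k) :
    List.ofFn (toDP δ l) = l ∧ form (toDP δ l) (toDP δ l) = sq ∧ form (canon δ) (toDP δ l) = -k := by
  simp only [enum, List.mem_flatMap, List.mem_range, List.mem_map] at hl
  obtain ⟨i, hi, t, ht, rfl⟩ := hl
  obtain ⟨h1, h2, h3⟩ := (mem_search t δ _ _ (by nlinarith)).mp ht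
  have hof : (List.ofFn fun j : Fin δ => toDP δ (((i : ℤ) - 1) :: t) j.succ) = t := by
    apply List.ext_getElem
    · simp [h1]
    · intro n hn hn'
      simp [toDP, List.getElem?_eq_getElem hn']
  have h0 : toDP δ (((i : ℤ) - 1) :: t) 0 = (i : ℤ) - 1 := by simp [toDP]
  refine ⟨?_, ?_, ?_⟩
  · rw [List.ofFn_succ, hof, h0]
  · rw [form_self, hof, h0, h3]; ring
  · rw [form_canon, hof, h0, h2]; ring

theorem nodup_enum (δ : ℕ) (sq k : ℤ) : (enum δ sq k).Nodup := by
  rw [enum, List.nodup_flatMap]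
  refine ⟨fun i _ => (nodup_search δ _ _).map List.cons_injective, ?_⟩
  refine List.Pairwise.imp ?_ List.nodup_range
  intro i j hij a hi hj
  simp only [List.mem_map] at hi hj
  obtain ⟨t, -, rfl⟩ := hi
  obtain ⟨s, -, hs⟩ := hj
  injection hs with h1 _
  omega

theorem ncard_classes {δ : ℕ} (hδ : δ ≤ 8) {sq k : ℤ} (hp : (sq = 0 ∧ k = 2) ∨ (sq = -1 ∧ k = 1)) :
    {v : DP δ | form v v = sq ∧ form (canon δ) v = -k}.ncard = (enum δ sq k).length := by
  classical
  have hsq : -1 ≤ sq := by rcases hp with ⟨rfl, -⟩ | ⟨rfl, -⟩ <;> norm_num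
  rw [← List.toFinset_card_of_nodup (nodup_enum δ sq k), ← Set.ncard_coe_finset]
  rw [← Set.ncard_image_of_injective _ (List.ofFn_injective (n := δ + 1))]
  congr 1
  ext l
  simp only [Set.mem_image, Set.mem_setOf_eq, List.coe_toFinset]
  constructor
  · rintro ⟨v, ⟨h1, h2⟩, rfl⟩
    exact mem_enum_ofFn hδ hp v h1 h2
  · intro hl
    obtain ⟨h1, h2, h3⟩ := mem_enum_spec hsq hl
    exact ⟨_, ⟨h2, h3⟩, h1⟩

end Groth.Agent.W4c3DP
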