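import Groth.Agent.W4c3DP.Enum
import Mathlib.Data.Finset.Max
import Mathlib.LinearAlgebra.Span.Defs
import Mathlib.Tactic.Abel

/-!
# Weyl reflections of `DP δ`, dominant representatives, and sorted enumeration
-/

namespace Groth.Agent.W4c3DP

open W4c3severiratdp

theorem form_comm {δ : ℕ} (v w : DP δ) : form v w = form w v := by
  simp only [form]; congr 1
  · ring
  · exact Finset.sum_congr rfl fun i _ => mul_comm _ _

theorem form_add_left {δ : ℕ} (u v w : DP δ) : form (u + v) w = form u w + form v w := by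
  simp only [form, Pi.add_apply, add_mul, Finset.sum_add_distrib]; ring

theorem form_smul_left {δ : ℕ} (c : ℤ) (v w : DP δ) : form (c • v) w = c * form v w := by
  simp only [form, Pi.smul_apply, smul_eq_mul, mul_sub, Finset.mul_sum, mul_assoc]

theorem form_add_right {δ : ℕ} (u v w : DP δ) : form u (v + w) = form u v + form u w := by
  rw [form_comm, form_add_left, form_comm v, form_comm w]

theorem form_smul_right {δ : ℕ} (c : ℤ) (v w : DP δ) : form v (c • w) = c * form v w := by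
  rw [form_comm, form_smul_left, form_comm]

/-- The reflection in a root. -/
def refl {δ : ℕ} (r : DP δ) (hr : form r r = -2) : DP δ ≃ₗ[ℤ] DP δ where
  toFun v := v + form v r • r
  map_add' u v := by rw [form_add_left, add_smul]; abel
  map_smul' c v := by
    simp only [RingHom.id_apply, form_smul_left, smul_add, mul_smul]
  invFun v := v + form v r • r
  left_inv v := by
    show v + form v r • r + form (v + form v r • r) r • r = v
    rw [form_add_left, form_smul_left, hr, add_assoc, ← add_smul,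
      show form v r + (form v r + form v r * -2) = 0 by ring, zero_smul, add_zero]
  right_inv v := by
    show v + form v r • r + form (v + form v r • r) r • r = v
    rw [form_add_left, form_smul_left, hr, add_assoc, ← add_smul,
      show form v r + (form v r + form v r * -2) = 0 by ring, zero_smul, add_zero]

theorem refl_apply {δ : ℕ} (r : DP δ) (hr : form r r = -2) (v : DP δ) :
    refl r hr v = v + form v r • r := rfl

theorem isWeyl_refl {δ : ℕ} (r : DP δ) (hr : form r r = -2) (hK : form (canon δ) r = 0) :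
    IsWeyl (refl r hr) := by
  refine ⟨fun v w => ?_, ?_⟩
  · simp only [refl_apply, form_add_left, form_add_right, form_smul_left, form_smul_right, hr]
    rw [form_comm r w]; ring
  · rw [refl_apply, hK, zero_smul, add_zero]

theorem isWeyl_one (δ : ℕ) : IsWeyl (LinearEquiv.refl ℤ (DP δ)) := ⟨fun _ _ => rfl, rfl⟩

theorem isWeyl_trans {δ : ℕ} {g h : DP δ ≃ₗ[ℤ] DP δ} (hg : IsWeyl g) (hh : IsWeyl h) :
    IsWeyl (g.trans h) :=
  ⟨fun v w => by rw [LinearEquiv.trans_apply, LinearEquiv.trans_apply, hh.1, hg.1],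
    by rw [LinearEquiv.trans_apply, hg.2, hh.2]⟩

theorem isWeyl_symm {δ : ℕ} {g : DP δ ≃ₗ[ℤ] DP δ} (hg : IsWeyl g) : IsWeyl g.symm :=
  ⟨fun v w => by rw [← hg.1, g.apply_symm_apply, g.apply_symm_apply],
    by rw [LinearEquiv.symm_apply_eq, hg.2]⟩

theorem isConic_map {δ : ℕ} {g : DP δ ≃ₗ[ℤ] DP δ} (hg : IsWeyl g) {v : DP δ} (hv : IsConic v) :
    IsConic (g v) :=
  ⟨by rw [hg.1]; exact hv.1, by rw [← hg.2, hg.1]; exact hv.2⟩

theorem isExc_map {δ : ℕ} {g : DP δ ≃ₗ[ℤ] DP δ} (hg : IsWeyl g) {v : DP δ} (hv : IsExc v) :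
    IsExc (g v) :=
  ⟨by rw [hg.1]; exact hv.1, by rw [← hg.2, hg.1]; exact hv.2⟩

/-- A vector making all the simple roots used below strictly positive. -/
def rho (δ : ℕ) : DP δ := fun x => if (x : ℕ) = 0 then 22 else 9 - (x : ℕ)

theorem finite_classes {δ : ℕ} (hδ : δ ≤ 8) {sq k : ℤ} (hp : (sq = 0 ∧ k = 2) ∨ (sq = -1 ∧ k = 1)) :
    {v : DP δ | form v v = sq ∧ form (canon δ) v = -k}.Finite := by
  refine Set.Finite.subset ((enum δ sq k).finite_toSet.image (toDP δ)) fun v hv => ?_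
  exact ⟨_, mem_enum_ofFn hδ hp v hv.1 hv.2, toDP_ofFn v⟩

/-- Every class is moved by reflections in the given roots to a dominant one. -/
theorem exists_dominant {δ : ℕ} (hδ : δ ≤ 8) {sq k : ℤ}
    (hp : (sq = 0 ∧ k = 2) ∨ (sq = -1 ∧ k = 1)) (R : List (DP δ))
    (hR : ∀ r ∈ R, form r r = -2 ∧ form (canon δ) r = 0 ∧ 0 < form r (rho δ))
    (v : DP δ) (h1 : form v v = sq) (h2 : form (canon δ) v = -k) :
    ∃ g : DP δ ≃ₗ[ℤ] DP δ, IsWeyl g ∧ (∀ u, (∀ r ∈ R, form u r = 0) → g u = u) ∧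
      ∀ r ∈ R, 0 ≤ form (g v) r := by
  obtain ⟨S, hSdef⟩ : ∃ S : Set (DP δ), S = {w | ∃ g : DP δ ≃ₗ[ℤ] DP δ, IsWeyl g ∧
      (∀ u, (∀ r ∈ R, form u r = 0) → g u = u) ∧ w = g v} := ⟨_, rfl⟩
  have hS : S.Finite := (finite_classes hδ hp).subset fun w hw => by
    rw [hSdef] at hw
    obtain ⟨g, hg, -, rfl⟩ := hw
    exact ⟨by rw [hg.1, h1], by rw [← hg.2, hg.1, h2]⟩
  obtain ⟨w, hw, hmin⟩ := hS.toFinset.exists_min_image (fun w => form w (rho δ))
    ⟨v, by rw [hS.mem_toFinset, hSdef]; exact ⟨LinearEquiv.refl ℤ _, isWeyl_one δ, fun _ _ => rfl, rfl⟩⟩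
  simp only [hS.mem_toFinset] at hw hmin
  rw [hSdef] at hw
  obtain ⟨g, hg, hfix, rfl⟩ := hw
  refine ⟨g, hg, hfix, fun r hr => ?_⟩
  by_contra hneg
  obtain ⟨hr1, hr2, hr3⟩ := hR r hr
  have hlt := hmin (refl r hr1 (g v)) (by
    rw [hSdef]
    refine ⟨g.trans (refl r hr1), isWeyl_trans hg (isWeyl_refl r hr1 hr2), fun u hu => ?_, rfl⟩
    rw [LinearEquiv.trans_apply, hfix u hu, refl_apply, hu r hr, zero_smul, add_zero])
  rw [refl_apply] at hlt
  simp only [form_add_left, form_smul_left] at hlt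
  nlinarith

/-- The root `-e_{j+1} + e_{j+2}`. -/
def diff (δ j : ℕ) : DP δ := fun x => if (x : ℕ) = j + 1 then -1 else if (x : ℕ) = j + 2 then 1 else 0

/-- The root `ℓ - e_1 - e_2 - e_3`, present for `δ ≥ 3`. -/
def cubic (δ : ℕ) : List (DP δ) := if 3 ≤ δ then [toDP δ [1, 1, 1, 1]] else []

/-- The roots attached to a set of adjacent positions, with the cubic root. -/
def roots (δ : ℕ) (J : List ℕ) : List (DP δ) := J.map (diff δ) ++ cubic δ

theorem form_diff {δ : ℕ} (v : DP δ) (j : ℕ) (hj : j + 1 < δ) :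
    form v (diff δ j) = v (Fin.succ ⟨j, by omega⟩) - v (Fin.succ ⟨j + 1, hj⟩) := by
  have hsum : ∀ i : Fin δ, v i.succ * diff δ j i.succ =
      (if i = ⟨j, by omega⟩ then -v i.succ else 0) + (if i = ⟨j + 1, hj⟩ then v i.succ else 0) := by
    intro i
    simp only [diff, Fin.val_succ, Fin.ext_iff]
    split_ifs <;> first | omega | ring
  rw [form, Finset.sum_congr rfl (fun i _ => hsum i), Finset.sum_add_distrib, Finset.sum_ite_eq',
    Finset.sum_ite_eq']
  have h0 : diff δ j 0 = 0 := by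
    show (if ((0 : Fin (δ + 1)) : ℕ) = j + 1 then (-1 : ℤ) else _) = 0
    rw [if_neg (by simp), if_neg (by simp)]
  simp only [Finset.mem_univ, if_true, h0]
  ring

/-- Lists with given sum and sum of squares whose `i`-th entry is at most the previous one for
`pos + i ∈ J`. -/
def searchC (J : List ℕ) : ℕ → ℕ → ℤ → ℤ → ℤ → List (List ℤ)
  | 0, _, _, S, Q => if S = 0 ∧ Q = 0 then [[]] else []
  | n + 1, pos, prev, S, Q =>
    if S * S ≤ ((n : ℤ) + 1) * Q then
      (List.range (2 * isq 12 Q + 1)).flatMap fun i : ℕ =>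
        if J.contains pos ∧ prev < (i : ℤ) - (isq 12 Q : ℤ) then []
        else (searchC J n (pos + 1) ((i : ℤ) - (isq 12 Q : ℤ)) (S - ((i : ℤ) - (isq 12 Q : ℤ)))
          (Q - ((i : ℤ) - (isq 12 Q : ℤ)) * ((i : ℤ) - (isq 12 Q : ℤ)))).map
          (List.cons ((i : ℤ) - (isq 12 Q : ℤ)))
    else []

theorem mem_searchC (J : List ℕ) : ∀ (l : List ℤ) (n pos : ℕ) (prev S Q : ℤ), Q ≤ 168 →
    l.length = n → l.sum = S → (l.map fun x => x * x).sum = Q →
    (∀ i, i < n → pos + i ∈ J → l.getD i 0 ≤ (prev :: l).getD i 0) →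
    l ∈ searchC J n pos prev S Q
  | [], 0, _, _, S, Q, _, _, h2, h3, _ => by
    rw [searchC, if_pos ⟨h2.symm, h3.symm⟩]; exact List.mem_singleton.mpr rfl
  | x :: l, 0, _, _, _, _, _, h1, _, _, _ => by simp at h1
  | [], n + 1, _, _, _, _, _, h1, _, _, _ => by simp at h1
  | x :: l, n + 1, pos, prev, S, Q, hQ, h1, h2, h3, h4 => by
    have hsq := sq_sum_le (x :: l)
    simp only [List.length_cons, List.sum_cons, List.map_cons] at h1 h2 h3 hsq
    have hl := (sq_sum_le l).2
    have hb : x * x ≤ Q := by linarith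
    have hx : |x| ≤ (12 : ℕ) := by
      push_cast
      nlinarith [abs_mul_abs_self x, abs_nonneg x]
    have hr := abs_le.mp (abs_le_isq 12 x Q hb hx)
    rw [searchC, if_pos]
    · simp only [List.mem_flatMap, List.mem_range]
      have hi : (((x + (isq 12 Q : ℤ)).toNat : ℕ) : ℤ) - (isq 12 Q : ℤ) = x := by omega
      refine ⟨(x + (isq 12 Q : ℤ)).toNat, by omega, ?_⟩
      rw [hi, if_neg]
      · refine List.mem_map.mpr ⟨l, ?_, rfl⟩
        refine mem_searchC J l n (pos + 1) x _ _ (by nlinarith [mul_self_nonneg x]) (by omega)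
          (by linarith) (by linarith) fun i hi' hiJ => ?_
        have := h4 (i + 1) (by omega) (by rwa [show pos + (i + 1) = pos + 1 + i by omega])
        simpa using this
      · rintro ⟨hc, hlt⟩
        have := h4 0 (by omega) (by simpa using hc)
        simp only [List.getD_cons_zero] at this
        omega
    · rw [← h2, ← h3]
      have : (l.length : ℤ) = n := by exact_mod_cast (show l.length = n by omega)
      calc _ ≤ _ := hsq.1
        _ = _ := by push_cast; rw [this]

/-- Candidates for the dominant classes with respect to `roots δ J`. -/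
def cand (δ : ℕ) (sq k : ℤ) (J : List ℕ) : List (DP δ) :=
  (((List.range 14).flatMap fun i : ℕ =>
    (searchC (J.map (· + 1)) δ 0 0 (3 * ((i : ℤ) - 1) - k) (((i : ℤ) - 1) * ((i : ℤ) - 1) - sq)).map
      (List.cons ((i : ℤ) - 1))).map (toDP δ)).filter
    fun v => (roots δ J).all fun r => decide (0 ≤ form v r)

theorem mem_cand {δ : ℕ} (hδ : δ ≤ 8) {sq k : ℤ} (hp : (sq = 0 ∧ k = 2) ∨ (sq = -1 ∧ k = 1))
    (J : List ℕ) (hJ : ∀ j ∈ J, j + 1 < δ) (v : DP δ) (h1 : form v v = sq)
    (h2 : form (canon δ) v = -k) (hdom : ∀ r ∈ roots δ J, 0 ≤ form v r) : v ∈ cand δ sq k J := by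
  have henum := mem_enum_ofFn hδ hp v h1 h2
  simp only [enum, List.mem_flatMap, List.mem_range, List.mem_map] at henum
  obtain ⟨i, hi, t, ht, hcons⟩ := henum
  have hQ : ((i : ℤ) - 1) * ((i : ℤ) - 1) - sq ≤ 168 := by
    rcases hp with ⟨rfl, -⟩ | ⟨rfl, -⟩ <;> nlinarith
  obtain ⟨e1, e2, e3⟩ := (mem_search t δ _ _ hQ).mp ht
  simp only [cand, List.mem_filter, List.all_eq_true, decide_eq_true_eq]
  refine ⟨List.mem_map.mpr ⟨List.ofFn v, ?_, toDP_ofFn v⟩, hdom⟩
  simp only [List.mem_flatMap, List.mem_range, List.mem_map]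
  refine ⟨i, hi, t, mem_searchC _ t δ 0 0 _ _ hQ e1 e2 e3 fun n hn hnJ => ?_, hcons⟩
  rw [Nat.zero_add, List.mem_map] at hnJ
  obtain ⟨j, hj, rfl⟩ := hnJ
  have hlt := hJ j hj
  have hd := hdom _ (List.mem_append_left _ (List.mem_map.mpr ⟨j, hj, rfl⟩))
  rw [form_diff v j hlt] at hd
  have hget : ∀ (m : ℕ) (hm : m < δ), t.getD m 0 = v (Fin.succ ⟨m, hm⟩) := by
    intro m hm
    have h := congrArg (fun l : List ℤ => l.getD (m + 1) 0) hcons
    simp only [List.getD_cons_succ] at h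
    rw [h, List.getD_eq_getElem _ _ (by rw [List.length_ofFn]; omega), List.getElem_ofFn]
    rfl
  rw [List.getD_cons_succ, hget (j + 1) hlt, hget j (by omega)]
  omega

end Groth.Agent.W4c3DP
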