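import Groth.Agent.W4c3DP.Weyl
import Mathlib.Algebra.BigOperators.Group.Finset.Basic
import Mathlib.Tactic.IntervalCases

/-!
# Orbits of conic and exceptional classes of `DP δ` under the Weyl group
-/

namespace Groth.Agent.W4c3DP

open W4c3severiratdp

/-- The roots orthogonal to given vectors are as required by `exists_dominant`. -/
theorem reduce {δ : ℕ} (hδ : δ ≤ 8) {sq k : ℤ} (hp : (sq = 0 ∧ k = 2) ∨ (sq = -1 ∧ k = 1))
    (J : List ℕ) (hJ : ∀ j ∈ J, j + 1 < δ)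
    (hR : ∀ r ∈ roots δ J, form r r = -2 ∧ form (canon δ) r = 0 ∧ 0 < form r (rho δ))
    (v : DP δ) (h1 : form v v = sq) (h2 : form (canon δ) v = -k) :
    ∃ g : DP δ ≃ₗ[ℤ] DP δ, IsWeyl g ∧ (∀ u, (∀ r ∈ roots δ J, form u r = 0) → g u = u) ∧
      g v ∈ cand δ sq k J := by
  obtain ⟨g, hg, hfix, hdom⟩ := exists_dominant hδ hp (roots δ J) hR v h1 h2
  exact ⟨g, hg, hfix, mem_cand hδ hp J hJ _ (by rw [hg.1, h1]) (by rw [← hg.2, hg.1, h2]) hdom⟩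

/-- The standard conic `ℓ - e_1`. -/
def q0 (δ : ℕ) : DP δ := toDP δ [1, 1]

/-- The facts, checked by evaluation, needed for pairs of conics. -/
theorem conic_pair {δ : ℕ} (hδ : δ ≤ 8) (p : ℤ → Prop)
    (hJ0 : ∀ j ∈ List.range (δ - 1), j + 1 < δ)
    (hR0 : ∀ r ∈ roots δ (List.range (δ - 1)), form r r = -2 ∧ form (canon δ) r = 0 ∧ 0 < form r (rho δ))
    (hJ1 : ∀ j ∈ (List.range (δ - 1)).erase 0, j + 1 < δ)
    (hR1 : ∀ r ∈ roots δ ((List.range (δ - 1)).erase 0),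
      form r r = -2 ∧ form (canon δ) r = 0 ∧ 0 < form r (rho δ))
    (hq : ∀ r ∈ roots δ ((List.range (δ - 1)).erase 0), form (q0 δ) r = 0)
    (hA : ∀ v ∈ cand δ 0 2 (List.range (δ - 1)), v = q0 δ)
    (hB : ∀ v ∈ cand δ 0 2 ((List.range (δ - 1)).erase 0),
      ∀ w ∈ cand δ 0 2 ((List.range (δ - 1)).erase 0),
        form (q0 δ) v = form (q0 δ) w → p (form (q0 δ) v) → v = w)
    (v₁ v₂ w₁ w₂ : DP δ) (hv₁ : IsConic v₁) (hv₂ : IsConic v₂) (hw₁ : IsConic w₁) (hw₂ : IsConic w₂)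
    (heq : form v₁ v₂ = form w₁ w₂) (hp : p (form v₁ v₂)) :
    ∃ g : DP δ ≃ₗ[ℤ] DP δ, IsWeyl g ∧ g v₁ = w₁ ∧ g v₂ = w₂ := by
  have key : ∀ a b : DP δ, IsConic a → IsConic b → ∃ g : DP δ ≃ₗ[ℤ] DP δ, IsWeyl g ∧ g a = q0 δ ∧
      g b ∈ cand δ 0 2 ((List.range (δ - 1)).erase 0) ∧ form (q0 δ) (g b) = form a b := by
    intro a b ha hb
    obtain ⟨g₁, hg₁, -, hc₁⟩ := reduce hδ (Or.inl ⟨rfl, rfl⟩) _ hJ0 hR0 a ha.1 ha.2
    have he := hA _ hc₁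
    obtain ⟨g₂, hg₂, hfix, hc₂⟩ := reduce hδ (Or.inl ⟨rfl, rfl⟩) _ hJ1 hR1 (g₁ b)
      (isConic_map hg₁ hb).1 (isConic_map hg₁ hb).2
    refine ⟨g₁.trans g₂, isWeyl_trans hg₁ hg₂, ?_, hc₂, ?_⟩
    · rw [LinearEquiv.trans_apply, he]; exact hfix _ hq
    · rw [← hfix _ hq, ← he, LinearEquiv.trans_apply, hg₂.1, hg₁.1]
  obtain ⟨g, hg, hg1, hg2, hg3⟩ := key v₁ v₂ hv₁ hv₂
  obtain ⟨h, hh, hh1, hh2, hh3⟩ := key w₁ w₂ hw₁ hw₂
  have he := hB _ hg2 _ hh2 (by rw [hg3, hh3, heq]) (by rw [hg3]; exact hp)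
  refine ⟨g.trans h.symm, isWeyl_trans hg (isWeyl_symm hh), ?_, ?_⟩
  · rw [LinearEquiv.trans_apply, hg1, ← hh1, h.symm_apply_apply]
  · rw [LinearEquiv.trans_apply, he, h.symm_apply_apply]

set_option maxRecDepth 10000 in
theorem conic_pair_two (v₁ v₂ w₁ w₂ : DP 2) (h1 : IsConic v₁) (h2 : IsConic v₂) (h3 : IsConic w₁)
    (h4 : IsConic w₂) (heq : form v₁ v₂ = form w₁ w₂) :
    ∃ g : DP 2 ≃ₗ[ℤ] DP 2, IsWeyl g ∧ g v₁ = w₁ ∧ g v₂ = w₂ :=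
  conic_pair (by norm_num) (fun _ => True) (by decide) (by decide +kernel) (by decide)
    (by decide +kernel) (by decide +kernel) (by decide +kernel) (by decide +kernel)
    v₁ v₂ w₁ w₂ h1 h2 h3 h4 heq trivial

theorem conic_pair_three (v₁ v₂ w₁ w₂ : DP 3) (h1 : IsConic v₁) (h2 : IsConic v₂) (h3 : IsConic w₁)
    (h4 : IsConic w₂) (heq : form v₁ v₂ = form w₁ w₂) :
    ∃ g : DP 3 ≃ₗ[ℤ] DP 3, IsWeyl g ∧ g v₁ = w₁ ∧ g v₂ = w₂ :=
  conic_pair (by norm_num) (fun _ => True) (by decide) (by decide +kernel) (by decide)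
    (by decide +kernel) (by decide +kernel) (by decide +kernel) (by decide +kernel)
    v₁ v₂ w₁ w₂ h1 h2 h3 h4 heq trivial

theorem conic_pair_four (v₁ v₂ w₁ w₂ : DP 4) (h1 : IsConic v₁) (h2 : IsConic v₂) (h3 : IsConic w₁)
    (h4 : IsConic w₂) (heq : form v₁ v₂ = form w₁ w₂) :
    ∃ g : DP 4 ≃ₗ[ℤ] DP 4, IsWeyl g ∧ g v₁ = w₁ ∧ g v₂ = w₂ :=
  conic_pair (by norm_num) (fun _ => True) (by decide) (by decide +kernel) (by decide)
    (by decide +kernel) (by decide +kernel) (by decide +kernel) (by decide +kernel)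
    v₁ v₂ w₁ w₂ h1 h2 h3 h4 heq trivial

theorem conic_pair_five (v₁ v₂ w₁ w₂ : DP 5) (h1 : IsConic v₁) (h2 : IsConic v₂) (h3 : IsConic w₁)
    (h4 : IsConic w₂) (heq : form v₁ v₂ = form w₁ w₂) :
    ∃ g : DP 5 ≃ₗ[ℤ] DP 5, IsWeyl g ∧ g v₁ = w₁ ∧ g v₂ = w₂ :=
  conic_pair (by norm_num) (fun _ => True) (by decide) (by decide +kernel) (by decide)
    (by decide +kernel) (by decide +kernel) (by decide +kernel) (by decide +kernel)
    v₁ v₂ w₁ w₂ h1 h2 h3 h4 heq trivial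

theorem conic_pair_six (v₁ v₂ w₁ w₂ : DP 6) (h1 : IsConic v₁) (h2 : IsConic v₂) (h3 : IsConic w₁)
    (h4 : IsConic w₂) (heq : form v₁ v₂ = form w₁ w₂) :
    ∃ g : DP 6 ≃ₗ[ℤ] DP 6, IsWeyl g ∧ g v₁ = w₁ ∧ g v₂ = w₂ :=
  conic_pair (by norm_num) (fun _ => True) (by decide) (by decide +kernel) (by decide)
    (by decide +kernel) (by decide +kernel) (by decide +kernel) (by decide +kernel)
    v₁ v₂ w₁ w₂ h1 h2 h3 h4 heq trivial

theorem conic_pair_seven (v₁ v₂ w₁ w₂ : DP 7) (h1 : IsConic v₁) (h2 : IsConic v₂) (h3 : IsConic w₁)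
    (h4 : IsConic w₂) (heq : form v₁ v₂ = form w₁ w₂) :
    ∃ g : DP 7 ≃ₗ[ℤ] DP 7, IsWeyl g ∧ g v₁ = w₁ ∧ g v₂ = w₂ :=
  conic_pair (by norm_num) (fun _ => True) (by decide) (by decide +kernel) (by decide)
    (by decide +kernel) (by decide +kernel) (by decide +kernel) (by decide +kernel)
    v₁ v₂ w₁ w₂ h1 h2 h3 h4 heq trivial

theorem conic_pair_eight (v₁ v₂ w₁ w₂ : DP 8) (h1 : IsConic v₁) (h2 : IsConic v₂) (h3 : IsConic w₁)
    (h4 : IsConic w₂) (heq : form v₁ v₂ = form w₁ w₂) (hne : form v₁ v₂ ≠ 4) :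
    ∃ g : DP 8 ≃ₗ[ℤ] DP 8, IsWeyl g ∧ g v₁ = w₁ ∧ g v₂ = w₂ :=
  conic_pair (by norm_num) (fun z => z ≠ 4) (by decide) (by decide +kernel) (by decide)
    (by decide +kernel) (by decide +kernel) (by decide +kernel) (by decide +kernel)
    v₁ v₂ w₁ w₂ h1 h2 h3 h4 heq hne

/-- First conic pair with product `4`. -/
def pairP : DP 8 := toDP 8 [4, 0, 2, 2, 2, 1, 1, 1, 1]

/-- Second conic pair with product `4`. -/
def pairQ : DP 8 := toDP 8 [5, 1, 2, 2, 2, 2, 2, 2, 0]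

theorem pair_four_candidates : ∀ v ∈ cand 8 0 2 ((List.range 7).erase 0),
    form (q0 8) v = 4 → v = pairP ∨ v = pairQ := by decide +kernel

theorem q0_unique : ∀ v ∈ cand 8 0 2 (List.range 7), v = q0 8 := by decide +kernel

theorem conic_pair_four_orbit (v₁ v₂ : DP 8) (h1 : IsConic v₁) (h2 : IsConic v₂) (h4 : form v₁ v₂ = 4) :
    ∃ g : DP 8 ≃ₗ[ℤ] DP 8, IsWeyl g ∧
      ((g v₁ = q0 8 ∧ g v₂ = pairP) ∨ (g v₁ = q0 8 ∧ g v₂ = pairQ)) := by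
  obtain ⟨g₁, hg₁, -, hc₁⟩ := reduce le_rfl (Or.inl ⟨rfl, rfl⟩) (List.range 7) (by decide)
    (by decide +kernel) v₁ h1.1 h1.2
  have he := q0_unique _ hc₁
  obtain ⟨g₂, hg₂, hfix, hc₂⟩ := reduce le_rfl (Or.inl ⟨rfl, rfl⟩) ((List.range 7).erase 0) (by decide)
    (by decide +kernel) (g₁ v₂) (isConic_map hg₁ h2).1 (isConic_map hg₁ h2).2
  have hq : g₂ (q0 8) = q0 8 := hfix _ (by decide +kernel)
  refine ⟨g₁.trans g₂, isWeyl_trans hg₁ hg₂, ?_⟩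
  simp only [LinearEquiv.trans_apply, he, hq, true_and]
  refine pair_four_candidates _ hc₂ ?_
  rw [← hq, ← he, hg₂.1, hg₁.1, h4]

theorem no_weyl_pairP_pairQ (g : DP 8 ≃ₗ[ℤ] DP 8) (h1 : g (q0 8) = q0 8) (h2 : g pairP = pairQ) :
    False := by
  obtain ⟨w, hw⟩ : ∃ w : DP 8, q0 8 + pairQ = (2 : ℤ) • w :=
    ⟨toDP 8 [3, 1, 1, 1, 1, 1, 1, 1, 0], by decide +kernel⟩
  have h : q0 8 + pairP = (2 : ℤ) • g.symm w := by
    rw [← map_smul, ← hw, LinearEquiv.eq_symm_apply, map_add, h1, h2]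
  have h5 : (q0 8 + pairP) 5 = 2 * g.symm w 5 := by rw [h]; rfl
  rw [show (q0 8 + pairP) 5 = 1 by decide +kernel] at h5
  omega

/-- The exceptional class `e_8`. -/
def e8 : DP 8 := toDP 8 [0, 0, 0, 0, 0, 0, 0, 0, -1]

theorem e8_unique : ∀ v ∈ cand 8 (-1) 1 (List.range 7), v = e8 := by decide +kernel

theorem exc_stab_unique : ∀ v ∈ cand 8 (-1) 1 (List.range 6), ∀ w ∈ cand 8 (-1) 1 (List.range 6),
    form v e8 = form w e8 → v = w := by decide +kernel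

theorem exists_to_e8 (L : DP 8) (hL : IsExc L) :
    ∃ g : DP 8 ≃ₗ[ℤ] DP 8, IsWeyl g ∧ g L = e8 := by
  obtain ⟨g, hg, -, hc⟩ := reduce le_rfl (Or.inr ⟨rfl, rfl⟩) (List.range 7) (by decide)
    (by decide +kernel) L hL.1 hL.2
  exact ⟨g, hg, e8_unique _ hc⟩

theorem exists_stab_e8 (v : DP 8) (hv : IsExc v) :
    ∃ g : DP 8 ≃ₗ[ℤ] DP 8, IsWeyl g ∧ g e8 = e8 ∧ g v ∈ cand 8 (-1) 1 (List.range 6) := by
  obtain ⟨g, hg, hfix, hc⟩ := reduce le_rfl (Or.inr ⟨rfl, rfl⟩) (List.range 6) (by decide)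
    (by decide +kernel) v hv.1 hv.2
  exact ⟨g, hg, hfix _ (by decide +kernel), hc⟩

theorem exc_pair (L L₁ L₂ : DP 8) (hL : IsExc L) (hL₁ : IsExc L₁) (hL₂ : IsExc L₂)
    (h : form L₁ L = form L₂ L) : ∃ g : DP 8 ≃ₗ[ℤ] DP 8, IsWeyl g ∧ g L = L ∧ g L₁ = L₂ := by
  obtain ⟨g, hg, hgL⟩ := exists_to_e8 L hL
  obtain ⟨a, ha, hae, hac⟩ := exists_stab_e8 (g L₁) (isExc_map hg hL₁)
  obtain ⟨b, hb, hbe, hbc⟩ := exists_stab_e8 (g L₂) (isExc_map hg hL₂)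
  have hfa : form (a (g L₁)) e8 = form L₁ L := by
    conv_lhs => rw [← hae, ← hgL, ha.1, hg.1]
  have hfb : form (b (g L₂)) e8 = form L₂ L := by
    conv_lhs => rw [← hbe, ← hgL, hb.1, hg.1]
  have he := exc_stab_unique _ hac _ hbc (by rw [hfa, hfb, h])
  refine ⟨(g.trans a).trans (g.trans b).symm, isWeyl_trans (isWeyl_trans hg ha)
    (isWeyl_symm (isWeyl_trans hg hb)), ?_, ?_⟩
  · simp only [LinearEquiv.trans_apply]
    rw [LinearEquiv.symm_apply_eq, LinearEquiv.trans_apply, hgL, hae, hbe]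
  · simp only [LinearEquiv.trans_apply]
    rw [LinearEquiv.symm_apply_eq, LinearEquiv.trans_apply, he]

theorem exc_cand_range : ∀ v ∈ cand 8 (-1) 1 (List.range 6),
    form v e8 ∈ ([-1, 0, 1, 2, 3] : List ℤ) := by decide +kernel

theorem exc_form_range (v : DP 8) (hv : IsExc v) :
    form v e8 ∈ ([-1, 0, 1, 2, 3] : List ℤ) := by
  obtain ⟨g, hg, hge, hc⟩ := exists_stab_e8 v hv
  have := exc_cand_range _ hc
  rwa [← hge, hg.1] at this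

end Groth.Agent.W4c3DP
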