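import Groth.Agent.W4c3DP.Orbits
import Mathlib.GroupTheory.Perm.Basic
import Mathlib.Data.Fintype.Perm
import Mathlib.Data.Fin.VecNotation

/-!
# Orbits of triples of exceptional classes summing to `e_8 - 2K`
-/

namespace Groth.Agent.W4c3DP

open W4c3severiratdp

/-- `e_8 - 2K`. -/
def target : DP 8 := e8 - 2 • canon 8

/-- The exceptional class `ℓ - e_1 - e_8`. -/
def rep1 : DP 8 := toDP 8 [1, 1, 0, 0, 0, 0, 0, 0, 1]

/-- The four representative triples. -/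
def reps : Fin 4 → (Fin 3 → DP 8) :=
  ![![e8, e8, toDP 8 [6, 2, 2, 2, 2, 2, 2, 2, 3]],
    ![e8, toDP 8 [0, 0, 0, 0, 0, 0, 0, -1, 0], toDP 8 [6, 2, 2, 2, 2, 2, 2, 3, 2]],
    ![e8, rep1, toDP 8 [5, 1, 2, 2, 2, 2, 2, 2, 1]],
    ![rep1, toDP 8 [2, 0, 1, 1, 1, 1, 1, 0, 0], toDP 8 [3, 1, 1, 1, 1, 1, 1, 2, 0]]]

theorem reps_spec : ∀ j, (∀ i, form (reps j i) (reps j i) = -1 ∧ form (canon 8) (reps j i) = -1) ∧
    reps j 0 + reps j 1 + reps j 2 = target := by decide +kernel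

/-- The invariant separating the four orbits. -/
def inv (t : Fin 3 → DP 8) : ℤ := ∑ i, form (t i) e8 * form (t i) e8

theorem inv_injective : ∀ j j' : Fin 4, inv (reps j) = inv (reps j') → j = j' := by decide +kernel

theorem third : ∀ j : Fin 4, reps j 2 = target - reps j 0 - reps j 1 := by decide +kernel

theorem stab_reps : ∀ v ∈ cand 8 (-1) 1 (List.range 6),
    (form v e8 = -1 → v = e8) ∧ (form v e8 = 0 → v = reps 1 1) ∧ (form v e8 = 1 → v = rep1) := by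
  decide +kernel

theorem stab_rep1_unique : ∀ v ∈ cand 8 (-1) 1 ((List.range 6).erase 0),
    form v e8 = 0 →
      form (target - rep1 - v) (target - rep1 - v) = -1 → form (target - rep1 - v) e8 = 0 →
      v = reps 3 1 := by decide +kernel

theorem form_target : form target e8 = 1 := by decide +kernel

theorem eq_e8_of_form (v : DP 8) (hv : IsExc v) (h : form v e8 = -1) : v = e8 := by
  obtain ⟨g, hg, hge, hc⟩ := exists_stab_e8 v hv
  have := (stab_reps _ hc).1 (by rw [← hge, hg.1, h])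
  exact g.injective (this.trans hge.symm)

theorem arrange (t : Fin 3 → DP 8) (ht : ∀ i, IsExc (t i)) (hsum : t 0 + t 1 + t 2 = target) :
    ∃ σ : Equiv.Perm (Fin 3),
      (form (t (σ 0)) e8 = -1 ∧ form (t (σ 1)) e8 ∈ ([-1, 0, 1] : List ℤ)) ∨
      (form (t (σ 0)) e8 = 1 ∧ form (t (σ 1)) e8 = 0 ∧ form (t (σ 2)) e8 = 0) := by
  have hs : form (t 0) e8 + form (t 1) e8 + form (t 2) e8 = 1 := by
    rw [← form_add_left, ← form_add_left, hsum, form_target]
  have h0 := exc_form_range _ (ht 0)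
  have h1 := exc_form_range _ (ht 1)
  have h2 := exc_form_range _ (ht 2)
  have key : ∀ a ∈ ([-1, 0, 1, 2, 3] : List ℤ), ∀ b ∈ ([-1, 0, 1, 2, 3] : List ℤ),
      ∀ c ∈ ([-1, 0, 1, 2, 3] : List ℤ), a + b + c = 1 → ∃ σ : Equiv.Perm (Fin 3),
      ((![a, b, c] (σ 0) = -1 ∧ ![a, b, c] (σ 1) ∈ ([-1, 0, 1] : List ℤ)) ∨
        (![a, b, c] (σ 0) = 1 ∧ ![a, b, c] (σ 1) = 0 ∧ ![a, b, c] (σ 2) = 0)) := by decide +kernel
  obtain ⟨σ, hσ⟩ := key _ h0 _ h1 _ h2 hs
  have hv : ∀ i, ![form (t 0) e8, form (t 1) e8, form (t 2) e8] i = form (t i) e8 := by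
    intro i; fin_cases i <;> rfl
  simp only [hv] at hσ
  exact ⟨σ, hσ⟩

theorem orbit_of_arranged (t : Fin 3 → DP 8) (ht : ∀ i, IsExc (t i))
    (hsum : t 0 + t 1 + t 2 = target)
    (h : (form (t 0) e8 = -1 ∧ form (t 1) e8 ∈ ([-1, 0, 1] : List ℤ)) ∨
      (form (t 0) e8 = 1 ∧ form (t 1) e8 = 0 ∧ form (t 2) e8 = 0)) :
    ∃ (j : Fin 4) (g : DP 8 ≃ₗ[ℤ] DP 8), IsWeyl g ∧ g e8 = e8 ∧ ∀ i, g (t i) = reps j i := by
  have hfin : ∀ (j : Fin 4) (g : DP 8 ≃ₗ[ℤ] DP 8), IsWeyl g → g e8 = e8 →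
      g (t 0) = reps j 0 → g (t 1) = reps j 1 → ∀ i, g (t i) = reps j i := by
    intro j g hg hge e0 e1 i
    have hgT : g target = target := by
      rw [target, map_sub, map_nsmul, hge, hg.2]
    have e2 : g (t 2) = reps j 2 := by
      rw [show t 2 = target - t 0 - t 1 by rw [← hsum]; abel, map_sub, map_sub, hgT, e0, e1, third]
    fin_cases i
    · exact e0
    · exact e1
    · exact e2
  rcases h with ⟨h0, h1⟩ | ⟨h0, h1, h2⟩
  · have e0 := eq_e8_of_form _ (ht 0) h0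
    obtain ⟨g, hg, hge, hc⟩ := exists_stab_e8 _ (ht 1)
    have hform : form (g (t 1)) e8 = form (t 1) e8 := by
      conv_lhs => rw [← hge, hg.1]
    have hs := stab_reps _ hc
    rw [hform] at hs
    simp only [List.mem_cons, List.not_mem_nil, or_false] at h1
    rcases h1 with h1 | h1 | h1
    · exact ⟨0, g, hg, hge, hfin 0 g hg hge (by rw [e0, hge]; rfl) (hs.1 h1)⟩
    · exact ⟨1, g, hg, hge, hfin 1 g hg hge (by rw [e0, hge]; rfl) (hs.2.1 h1)⟩
    · exact ⟨2, g, hg, hge, hfin 2 g hg hge (by rw [e0, hge]; rfl) (hs.2.2 h1)⟩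
  · obtain ⟨g₁, hg₁, hge₁, hc₁⟩ := exists_stab_e8 _ (ht 0)
    have e0 : g₁ (t 0) = rep1 := (stab_reps _ hc₁).2.2 (by conv_lhs => rw [← hge₁, hg₁.1, h0])
    obtain ⟨g₂, hg₂, hfix, hc₂⟩ := reduce le_rfl (Or.inr ⟨rfl, rfl⟩) ((List.range 6).erase 0)
      (by decide) (by decide +kernel) (g₁ (t 1)) (isExc_map hg₁ (ht 1)).1 (isExc_map hg₁ (ht 1)).2
    have hge₂ : g₂ e8 = e8 := hfix _ (by decide +kernel)
    have hre : g₂ rep1 = rep1 := hfix _ (by decide +kernel)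
    have hg : IsWeyl (g₁.trans g₂) := isWeyl_trans hg₁ hg₂
    have hge : (g₁.trans g₂) e8 = e8 := by rw [LinearEquiv.trans_apply, hge₁, hge₂]
    have e0' : (g₁.trans g₂) (t 0) = rep1 := by rw [LinearEquiv.trans_apply, e0, hre]
    have e2 : (g₁.trans g₂) (t 2) = target - rep1 - (g₁.trans g₂) (t 1) := by
      rw [show t 2 = target - t 0 - t 1 by rw [← hsum]; abel, map_sub, map_sub, e0']
      rw [target, map_sub, map_nsmul, hge, hg.2]
    refine ⟨3, g₁.trans g₂, hg, hge, hfin 3 _ hg hge e0' ?_⟩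
    refine stab_rep1_unique _ hc₂ ?_ ?_ ?_
    · show form ((g₁.trans g₂) (t 1)) e8 = 0
      conv_lhs => rw [← hge, hg.1, h1]
    · show form (target - rep1 - (g₁.trans g₂) (t 1)) (target - rep1 - (g₁.trans g₂) (t 1)) = -1
      rw [← e2, hg.1]; exact (ht 2).1
    · show form (target - rep1 - (g₁.trans g₂) (t 1)) e8 = 0
      rw [← e2]
      conv_lhs => rw [← hge, hg.1, h2]

theorem triples (L : DP 8) (hL : IsExc L) :
    ∃ r : Fin 4 → (Fin 3 → DP 8),
      (∀ j, (∀ i, IsExc (r j i)) ∧ r j 0 + r j 1 + r j 2 = L - 2 • canon 8) ∧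
      (∀ j j', (∃ g : DP 8 ≃ₗ[ℤ] DP 8, IsWeyl g ∧ g L = L ∧ ∃ σ : Equiv.Perm (Fin 3),
        ∀ i, g (r j (σ i)) = r j' i) → j = j') ∧
      ∀ t : Fin 3 → DP 8, (∀ i, IsExc (t i)) → t 0 + t 1 + t 2 = L - 2 • canon 8 →
        ∃ j, ∃ g : DP 8 ≃ₗ[ℤ] DP 8, IsWeyl g ∧ g L = L ∧ ∃ σ : Equiv.Perm (Fin 3),
          ∀ i, g (t (σ i)) = r j i := by
  obtain ⟨a, ha, haL⟩ := exists_to_e8 L hL
  have ha' := isWeyl_symm ha
  have haT : a.symm target = L - 2 • canon 8 := by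
    rw [target, map_sub, map_nsmul, ha'.2, ← haL, a.symm_apply_apply]
  refine ⟨fun j i => a.symm (reps j i), fun j => ⟨fun i => isExc_map ha' ((reps_spec j).1 i), ?_⟩,
    ?_, ?_⟩
  · rw [← map_add, ← map_add, (reps_spec j).2, haT]
  · rintro j j' ⟨g, hg, hgL, σ, hσ⟩
    refine inv_injective j j' ?_
    obtain ⟨g', hg'def⟩ : ∃ g' : DP 8 ≃ₗ[ℤ] DP 8, g' = (a.symm.trans g).trans a := ⟨_, rfl⟩
    have hg' : IsWeyl g' := hg'def ▸ isWeyl_trans (isWeyl_trans ha' hg) ha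
    have hge : g' e8 = e8 := by
      simp only [hg'def, LinearEquiv.trans_apply, ← haL, a.symm_apply_apply, hgL]
    have hσ' : ∀ i, g' (reps j (σ i)) = reps j' i := fun i => by
      simp only [hg'def, LinearEquiv.trans_apply, hσ, a.apply_symm_apply]
    have hterm : ∀ i, form (reps j' i) e8 = form (reps j (σ i)) e8 := fun i => by
      rw [← hσ' i]; conv_lhs => rw [← hge, hg'.1]
    simp only [inv, hterm]
    exact (Equiv.sum_comp σ (fun i => form (reps j i) e8 * form (reps j i) e8)).symm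
  · intro t ht hsum
    have hsum' : a (t 0) + a (t 1) + a (t 2) = target := by
      rw [← map_add, ← map_add, hsum, ← haT, a.apply_symm_apply]
    obtain ⟨σ, hσ⟩ := arrange (fun i => a (t i)) (fun i => isExc_map ha (ht i)) hsum'
    have hperm : a (t (σ 0)) + a (t (σ 1)) + a (t (σ 2)) = target := by
      rw [← hsum']
      have := Equiv.sum_comp σ (fun i => a (t i))
      simpa [Fin.sum_univ_three] using this
    obtain ⟨j, g, hg, hge, hgt⟩ := orbit_of_arranged (fun i => a (t (σ i)))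
      (fun i => isExc_map ha (ht _)) hperm hσ
    refine ⟨j, (a.trans g).trans a.symm, isWeyl_trans (isWeyl_trans ha hg) ha', ?_, σ, fun i => ?_⟩
    · simp only [LinearEquiv.trans_apply, haL, hge]
      rw [← haL, a.symm_apply_apply]
    · simp only [LinearEquiv.trans_apply]
      rw [hgt i]

end Groth.Agent.W4c3DP
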